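import Groth.Agent.NefBundleLib.Main
import Groth.Agent.EGA2SymLib.BaseChange
import Groth.Agent.RelAmpConsLib.Proper
import Groth.Agent.S9815

/-!
# Ampleness of a bundle on the fibres of a proper morphism
-/

set_option autoImplicit false
set_option linter.style.haveILetI false
set_option backward.isDefEq.respectTransparency false
set_option backward.isDefEq.respectTransparency.types false
set_option maxHeartbeats 1000000

universe u

open CategoryTheory CategoryTheory.Limits AlgebraicGeometry TopologicalSpace Opposite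
open KFlatLib (pb)
open Groth.Agent.RelAmpConsLib

noncomputable section

namespace NefBundleLib

open Groth.Agent EGA2SymLib

variable {Y Y' : Scheme.{u}} (ψ : Y' ⟶ Y) {E : Y.Modules} [Coh.IsQCoh E] {𝒮 : RelProj.QCGrAlg Y}
  {j : E ⟶ 𝒮.toModule} {P : Scheme.{u}} {p : P ⟶ Y}
  {chart : ∀ (U : Y.Opens) (hU : IsAffineOpen U), (((p ⁻¹ᵁ U : P.Opens) : Scheme.{u}) ≅ Proj (𝒮.deg U hU))}
  {O1 : P.Modules}
  {lam : ∀ (U : Y.Opens) (hU : IsAffineOpen U),
    O1 ⟶ (Scheme.Modules.pushforward (RelProj.emb p chart U hU)).obj (GrTwist.twist (𝒮.deg U hU) 1)}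
  {𝒯 : RelProj.QCGrAlg Y'} {k : pb ψ E ⟶ 𝒯.toModule} {Q : Scheme.{u}} {q : Q ⟶ Y'}
  {chartQ : ∀ (U : Y'.Opens) (hU : IsAffineOpen U), (((q ⁻¹ᵁ U : Q.Opens) : Scheme.{u}) ≅ Proj (𝒯.deg U hU))}
  {O1' : Q.Modules}
  {lam' : ∀ (U : Y'.Opens) (hU : IsAffineOpen U),
    O1' ⟶ (Scheme.Modules.pushforward (RelProj.emb q chartQ U hU)).obj (GrTwist.twist (𝒯.deg U hU) 1)}

/-- Any bundle data on the base change is the base change of the bundle. -/
theorem exists_baseChange_data (hj : RelProj.IsGrSymAlg E 𝒮 j) (hP : RelProj.IsRelProj 𝒮 p chart)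
    (hO1 : RelProj.IsRelTwist 𝒮 p chart 1 O1 lam) (hk : RelProj.IsGrSymAlg (pb ψ E) 𝒯 k)
    (hQ : RelProj.IsRelProj 𝒯 q chartQ) (hO1' : RelProj.IsRelTwist 𝒯 q chartQ 1 O1' lam') :
    ∃ h : Q ⟶ P, IsPullback h q p ψ ∧ Nonempty (pb h O1 ≅ O1') := by
  haveI := KFlatLib.isQCoh_pullback ψ E
  obtain ⟨v, hv, -⟩ := exists_qgrhom_pullback ψ hj hk
  obtain ⟨⟨h, hh⟩, hpb⟩ := Groth.Agent.S12141.result ψ 𝒮 𝒯 v hv p chart hP q chartQ hQ
  refine ⟨h, hpb h hh, ?_⟩
  obtain ⟨l, hl⟩ := GrModLib6.isRelTwist_congr (show (1 : ℤ) = 1 * ((1 : ℕ) : ℤ) by simp) hO1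
  obtain ⟨l', hl'⟩ := GrModLib6.isRelTwist_congr (show (1 : ℤ) = 1 * ((1 : ℕ) : ℤ) by simp) hO1'
  exact nonempty_pullback_twist_iso (irrelevant_le_of_isQBaseChange hv)
    (emb_comp_of_isProjQMap (irrelevant_le_of_isQBaseChange hv) hh) hP hQ (SymGenLib.isGenDegOne hj) hl hl'

/-- The fibres on which a bundle is ample form an open set. -/
theorem isOpen_ampleFibres {X S : Scheme.{u}} [IsNoetherian S] (f : X ⟶ S) [IsProper f] (F : X.Modules)
    (hF : FlatMod.IsFinLocFree F) :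
    IsOpen {y : S | ∀ (𝒯 : RelProj.QCGrAlg (f.fiber y)) (k : pb (f.fiberι y) F ⟶ 𝒯.toModule) (Q : Scheme.{u})
        (q : Q ⟶ f.fiber y)
        (chartQ : ∀ (U : (f.fiber y).Opens) (hU : IsAffineOpen U),
          (((q ⁻¹ᵁ U : Q.Opens) : Scheme.{u}) ≅ Proj (𝒯.deg U hU)))
        (O : Q.Modules)
        (lam : ∀ (U : (f.fiber y).Opens) (hU : IsAffineOpen U),
          O ⟶ (Scheme.Modules.pushforward (RelProj.emb q chartQ U hU)).obj (GrTwist.twist (𝒯.deg U hU) 1)),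
        RelProj.IsGrSymAlg (pb (f.fiberι y) F) 𝒯 k → RelProj.IsRelProj 𝒯 q chartQ →
          RelProj.IsRelTwist 𝒯 q chartQ 1 O lam → CohB1.IsAmple O} := by
  haveI : Coh.IsQCoh F := (VBResLib.isCoh_of_vb hF).1
  obtain ⟨𝒮, j, hj⟩ := EGA2SymLib.exists_isGrSymAlg F
  obtain ⟨P, p, chart, hP⟩ := MiscFlat6.exists_relProj 𝒮
  obtain ⟨O1, lam, hO1⟩ := GrModLib6.exists_isRelTwist hP 1
  have hO : PicF.IsInvertible O1 := EGA2SymLib.isInvertible_of_isRelTwist (SymGenLib.isGenDegOne hj) hO1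
  haveI := MiscFlat6.isProper_relProj hP (SymGenLib.isGenDegOne hj) (isFTDeg hF hj)
  let g := p ≫ f
  haveI : IsProper g := inferInstanceAs (IsProper (p ≫ f))
  obtain ⟨O, hO₁, hO₂⟩ := exists_open_noetherian g O1 hO
  convert O.2
  ext y
  simp only [Set.mem_setOf_eq, Opens.carrier_eq_coe, SetLike.mem_coe]
  -- the bundle of the fibre is the fibre of the bundle
  have key : ∀ {Q : Scheme.{u}} {q : Q ⟶ f.fiber y} {O' : Q.Modules} (h : Q ⟶ P),
      IsPullback h q p (f.fiberι y) → Nonempty (pb h O1 ≅ O') → PicF.IsInvertible O' →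
      (CohB1.IsAmple O' ↔ Amp g (𝟙 S) O1 (S.fromSpecResidueField y)) := by
    intro Q q O' h hh ⟨e⟩ hO'
    have hsq : IsPullback h (q ≫ f.fiberToSpecResidueField y) g (S.fromSpecResidueField y) :=
      hh.paste_vert (IsPullback.of_hasPullback f (S.fromSpecResidueField y))
    haveI : IsAffine (Spec (S.residueField y)) := inferInstance
    rw [← amp_id_iff_of_affine g O1 hO hsq]
    exact ⟨fun h' => AmpleDevLib.isAmple_of_iso h'.1 (AmpleDevLib.isInvertible_pb h hO) e.symm h',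
      fun h' => AmpleDevLib.isAmple_of_iso h'.1 hO' e h'⟩
  haveI : Coh.IsQCoh (pb (f.fiberι y) F) := KFlatLib.isQCoh_pullback _ F
  constructor
  · intro hy
    obtain ⟨𝒯, k, hk, Q, q, chartQ, hQ, O', lam', hO', h, hh, he⟩ :=
      EGA2SymLib.exists_baseChange_twist (f.fiberι y) hj hP hO1
    exact hO₁ y ((key h hh he (EGA2SymLib.isInvertible_of_isRelTwist (SymGenLib.isGenDegOne hk) hO')).1
      (hy 𝒯 k Q q chartQ O' lam' hk hQ hO'))
  · intro hy 𝒯 k Q q chartQ O' lam' hk hQ hO'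
    obtain ⟨h, hh, he⟩ := exists_baseChange_data (f.fiberι y) hj hP hO1 hk hQ hO'
    obtain ⟨W, hyW, hW⟩ := hO₂ y hy
    exact (key h hh he (EGA2SymLib.isInvertible_of_isRelTwist (SymGenLib.isGenDegOne hk) hO')).2
      (amp_point_of_open g O1 hO hW hyW)

end NefBundleLib

end
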