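import Groth.Agent.NefBundleLib.Main
import Groth.Agent.NefBcLib.Main
import Groth.Agent.CubeConsLib.IsoCls

/-!
# The curve test for nefness and extensions of the base field
-/

set_option autoImplicit false
set_option linter.style.haveILetI false
set_option linter.unusedSectionVars false
set_option backward.isDefEq.respectTransparency false
set_option backward.isDefEq.respectTransparency.types false
set_option maxHeartbeats 1000000

universe u

open CategoryTheory CategoryTheory.Limits AlgebraicGeometry TopologicalSpace Opposite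
open IntFunLib IntMultLib
open KFlatLib (pb)
open CubeConsLib (cl pull)

noncomputable section

namespace NefBundleLib

open Groth.Agent

variable (k : Type u) [Field k] {X C : Scheme.{u}} [X.Over (Spec (CommRingCat.of k))]
  [IsProper (X ↘ Spec (CommRingCat.of k))] {E : X.Modules} (hE : FlatMod.IsFinLocFree E)
  (k' : Type u) [Field k'] [Algebra k k']

attribute [local instance] HilbPolyLib.bcOver

/-- A base change of a proper scheme is proper. -/
theorem isProper_bc {Y : Scheme.{u}} [Y.Over (Spec (CommRingCat.of k))] [IsProper (Y ↘ Spec (CommRingCat.of k))] :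
    IsProper (Curv2.bc k Y k' ↘ Spec (CommRingCat.of k')) :=
  inferInstanceAs (IsProper (pullback.snd (Y ↘ Spec (CommRingCat.of k)) _))

include hE in
/-- The curve test over the base field gives the test over an extension. -/
theorem deg_nonneg_bc
    (hnef : ∀ (D : Scheme.{u}) [D.Over (Spec (CommRingCat.of k))] [IsProper (D ↘ (Spec (CommRingCat.of k)))] [IsIntegral D],
      topologicalKrullDim D = 1 → (∀ x : D, IsRegularLocalRing (D.presheaf.stalk x)) →
      ∀ (g : D ⟶ X), g ≫ (X ↘ (Spec (CommRingCat.of k))) = D ↘ (Spec (CommRingCat.of k)) →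
      ∀ (M : D.Modules), PicF.IsInvertible M →
      ∀ (q : (Scheme.Modules.pullback g).obj E ⟶ M), Epi q → 0 ≤ Curv2.deg k D M 1)
    [C.Over (Spec (CommRingCat.of k'))] [IsProper (C ↘ Spec (CommRingCat.of k'))] [IsIntegral C]
    (hdim : topologicalKrullDim C = 1) {g : C ⟶ Curv2.bc k X k'}
    (hg : g ≫ Curv2.bcSnd k X k' = C ↘ Spec (CommRingCat.of k')) {M : C.Modules} (hM : PicF.IsInvertible M)
    (q : pb g (pb (Curv2.bcFst k X k') E) ⟶ M) [Epi q] : 0 ≤ Curv2.deg k' C M 1 := by
  haveI hEq : Coh.IsQCoh E := (VBResLib.isCoh_of_vb hE).1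
  haveI := CurvLib.isNoetherian k (X := X)
  haveI : Coh.IsQCoh M := FinLFAnn.isQCoh_of_isFinLocFree (AmpleDevLib.isFinLocFree_of_isInvertible hM)
  let h := g ≫ Curv2.bcFst k X k'
  let s : pb h E ⟶ M := ((Scheme.Modules.pullbackComp g (Curv2.bcFst k X k')).app E).inv ≫ q
  haveI : Epi s := epi_comp _ _
  obtain ⟨𝒮, j, hj⟩ := EGA2SymLib.exists_isGrSymAlg E
  obtain ⟨P, p, chart, hP⟩ := MiscFlat6.exists_relProj 𝒮
  obtain ⟨O1, lam, hO1⟩ := GrModLib6.exists_isRelTwist hP 1
  obtain ⟨φ, hφ⟩ := EGA2SymLib.exists_canonicalMap_one hP hO1 j hj.2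
  obtain ⟨r, hr, τ, -⟩ := EGA2SymLib.exists_induces s hj hP hM hO1 hφ
  have hO : PicF.IsInvertible O1 := EGA2SymLib.isInvertible_of_isRelTwist (SymGenLib.isGenDegOne hj) hO1
  haveI := MiscFlat6.isProper_relProj hP (SymGenLib.isGenDegOne hj) (isFTDeg hE hj)
  letI : P.Over (Spec (CommRingCat.of k)) := ⟨p ≫ (X ↘ Spec (CommRingCat.of k))⟩
  haveI : IsProper (P ↘ Spec (CommRingCat.of k)) :=
    inferInstanceAs (IsProper (p ≫ (X ↘ Spec (CommRingCat.of k))))
  haveI := isProper_bc k k' (Y := P)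
  have hn : Nef k O1 := nef_of_cd ((main k X E hE).2 hnef 𝒮 j P p chart O1 lam hj hP hO1)
  have hn' : Nef k' (pb (Curv2.bcFst k P k') O1) := (NefBcLib.nef_bc_iff k' hO).1 hn
  have hcond : r ≫ p ≫ (X ↘ Spec (CommRingCat.of k)) =
      (C ↘ Spec (CommRingCat.of k')) ≫ Spec.map (CommRingCat.ofHom (algebraMap k k')) := by
    rw [← Category.assoc, hr, ← hg]
    simp only [h, Category.assoc]
    exact congrArg (fun z => g ≫ z) pullback.condition
  let g' : C ⟶ Curv2.bc k P k' := pullback.lift r (C ↘ Spec (CommRingCat.of k')) hcond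
  have hfst : g' ≫ Curv2.bcFst k P k' = r := pullback.lift_fst _ _ _
  have hsnd : g' ≫ (Curv2.bc k P k' ↘ Spec (CommRingCat.of k')) = C ↘ Spec (CommRingCat.of k') :=
    pullback.lift_snd _ _ _
  have hpb := Nef.pullback hsnd (AmpleDevLib.isInvertible_pb (Curv2.bcFst k P k') hO) hn'
  have hiso : Nef k' M := NefBcLib.nef_congr
    ((Scheme.Modules.pullbackComp g' (Curv2.bcFst k P k')).app O1 ≪≫
      (Scheme.Modules.pullbackCongr hfst).app O1 ≪≫ τ) hpb
  exact (NefCurveLib.deg_nonneg_iff hdim hM).2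
    (hiso (genericPoint C) (dim_closure_generic.trans (hdim.trans Nat.cast_one.symm)))

include hE in
/-- The curve test over an extension gives the test over the base field. -/
theorem deg_nonneg_of_bc
    (hnef : ∀ (D : Scheme.{u}) [D.Over (Spec (CommRingCat.of k'))] [IsProper (D ↘ (Spec (CommRingCat.of k')))] [IsIntegral D],
      topologicalKrullDim D = 1 → (∀ x : D, IsRegularLocalRing (D.presheaf.stalk x)) →
      ∀ (g : D ⟶ Curv2.bc k X k'), g ≫ Curv2.bcSnd k X k' = D ↘ (Spec (CommRingCat.of k')) →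
      ∀ (M : D.Modules), PicF.IsInvertible M →
      ∀ (q : (Scheme.Modules.pullback g).obj ((Scheme.Modules.pullback (Curv2.bcFst k X k')).obj E) ⟶ M), Epi q →
        0 ≤ Curv2.deg k' D M 1)
    [C.Over (Spec (CommRingCat.of k))] [IsProper (C ↘ Spec (CommRingCat.of k))] [IsIntegral C]
    (hdim : topologicalKrullDim C = 1) {f : C ⟶ X}
    (hf : f ≫ (X ↘ Spec (CommRingCat.of k)) = C ↘ Spec (CommRingCat.of k)) {M : C.Modules}
    (hM : PicF.IsInvertible M) (q : pb f E ⟶ M) [Epi q] : 0 ≤ Curv2.deg k C M 1 := by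
  haveI := isProper_bc k k' (Y := X)
  haveI := isProper_bc k k' (Y := C)
  suffices hn : Nef k M from (NefCurveLib.deg_nonneg_iff hdim hM).2
    (hn (genericPoint C) (dim_closure_generic.trans (hdim.trans Nat.cast_one.symm)))
  refine (NefBcLib.nef_bc_iff k' hM).2 fun ξ hξ => ?_
  let c := Curv2.bcFst k C k'
  let fE : Curv2.bc k C k' ⟶ Curv2.bc k X k' :=
    pullback.map _ _ _ _ f (𝟙 _) (𝟙 _) ((Category.comp_id _).trans hf.symm) (by simp)
  have hfst : fE ≫ Curv2.bcFst k X k' = c ≫ f := pullback.lift_fst _ _ _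
  have hsnd : fE ≫ Curv2.bcSnd k X k' = Curv2.bcSnd k C k' :=
    (pullback.lift_snd _ _ _).trans (Category.comp_id _)
  let Z := (ptIdeal ξ).subscheme
  haveI := isIntegral_ptIdeal ξ
  let ι : Z ⟶ Curv2.bc k C k' := (ptIdeal ξ).subschemeι
  letI : Z.Over (Spec (CommRingCat.of k')) := ⟨ι ≫ (Curv2.bc k C k' ↘ Spec (CommRingCat.of k'))⟩
  haveI : IsProper (Z ↘ Spec (CommRingCat.of k')) :=
    inferInstanceAs (IsProper (ι ≫ (Curv2.bc k C k' ↘ Spec (CommRingCat.of k'))))
  have hιη : ι (genericPoint Z) = ξ := NefCurveLib.subscheme_generic ξ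
  have hη : topologicalKrullDim (closure ({ι (genericPoint Z)} : Set ↥(Curv2.bc k C k'))) =
      ((1 : ℕ) : WithBot ℕ∞) := by
    rw [hιη]; exact hξ
  have hξ' : topologicalKrullDim (closure ({genericPoint Z} : Set Z)) = ((1 : ℕ) : WithBot ℕ∞) := by
    rw [← dim_closure_image ι]; exact hη
  have hd1 : topologicalKrullDim Z = 1 := dim_closure_generic.symm.trans (hξ'.trans Nat.cast_one)
  obtain ⟨e⟩ : Nonempty (pb (ι ≫ fE) (pb (Curv2.bcFst k X k') E) ≅ pb (ι ≫ c) (pb f E)) := by
    refine CubeConsLib.cl_eq_iff.1 ?_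
    show pull (ι ≫ fE) (pull _ (cl E)) = pull (ι ≫ c) (pull f (cl E))
    rw [CubeConsLib.pull_comp, CubeConsLib.pull_comp, Category.assoc, hfst, Category.assoc]
  let Q := Scheme.Modules.pullback (ι ≫ c)
  haveI : Q.IsLeftAdjoint := (Scheme.Modules.pullbackPushforwardAdjunction _).isLeftAdjoint
  haveI : Epi (Q.map q) := inferInstance
  let τ := (Scheme.Modules.pullbackComp ι c).app M
  let q₁ : pb (ι ≫ fE) (pb (Curv2.bcFst k X k') E) ⟶ pb ι (pb c M) := e.hom ≫ Q.map q ≫ τ.inv
  haveI : Epi q₁ := inferInstance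
  have hover : (ι ≫ fE) ≫ (Curv2.bc k X k' ↘ Spec (CommRingCat.of k')) = Z ↘ Spec (CommRingCat.of k') :=
    (Category.assoc _ _ _).trans (congrArg (fun z => ι ≫ z) hsnd)
  have h := NefCurveLib.test_integral hnef hd1 (f := ι ≫ fE) hover
    (AmpleDevLib.isInvertible_pb ι (AmpleDevLib.isInvertible_pb c hM)) q₁
  have h1 := (NefCurveLib.N_pullback_nonneg_iff (k := k') (g := ι) rfl (AmpleDevLib.isInvertible_pb c hM) hξ' hη).mp h
  rwa [hιη] at h1

end NefBundleLib

end
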