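import Groth.Agent.NefCurveLib.CurveTest
import Groth.Agent.EGA2SymLib.PBFun
import Groth.Agent.EGA2SymLib.Gen
import Groth.Agent.MiscFlat6.RelTwistOne
import Groth.Agent.QCohLib.AffineFinite
import Groth.Agent.VBResLib.Res
import Groth.Agent.S5732

/-!
# Nefness of `O(1)` on a projective bundle and the curve test
-/

set_option autoImplicit false
set_option linter.style.haveILetI false
set_option linter.unusedSectionVars false
set_option backward.isDefEq.respectTransparency false
set_option backward.isDefEq.respectTransparency.types false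
set_option maxHeartbeats 1000000

universe u

open CategoryTheory CategoryTheory.Limits AlgebraicGeometry TopologicalSpace Opposite
open IntFunLib IntMultLib
open KFlatLib (pb)

noncomputable section

namespace NefBundleLib

open Groth.Agent

/-- The symmetric algebra of a bundle is of finite type in degree one. -/
theorem isFTDeg {X : Scheme.{u}} {E : X.Modules} (hE : FlatMod.IsFinLocFree E) {𝒮 : RelProj.QCGrAlg X}
    {j : E ⟶ 𝒮.toModule} (hj : RelProj.IsGrSymAlg E 𝒮 j) : 𝒮.IsFTDeg 1 := by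
  classical
  intro U hU
  have hc := VBResLib.isCoh_of_vb hE
  haveI : Coh.IsQCoh E := hc.1
  haveI := QCohLib.finite_of_isFT hc.2 hU
  obtain ⟨n, v, hv⟩ := Module.Finite.exists_fin (R := Γ(X, U)) (M := Γ(E, U))
  refine ⟨Finset.univ.image fun i => EGA2SymLib.jS j U (v i), fun t ht => ?_, fun x hx => ?_⟩
  · obtain ⟨i, -, rfl⟩ := Finset.mem_image.1 (Finset.mem_coe.1 ht)
    exact hj.2 U hU _
  obtain ⟨e, rfl⟩ := EGA2SymLib.exists_of_mem_one hj U hU hx
  obtain ⟨r, rfl⟩ := (Submodule.mem_span_range_iff_exists_fun Γ(X, U)).1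
    (hv.ge (Submodule.mem_top : e ∈ (⊤ : Submodule Γ(X, U) Γ(E, U))))
  refine ⟨fun t => ∑ i ∈ Finset.univ.filter (fun i => EGA2SymLib.jS j U (v i) = t), r i, ?_⟩
  simp only [EGA2SymLib.jS, map_sum, Finset.sum_mul]
  rw [← Finset.sum_fiberwise_of_maps_to (g := fun i => j.app U (v i)) (fun i _ => Finset.mem_image_of_mem (fun i => j.app U (v i)) (Finset.mem_univ i))]
  refine Finset.sum_congr rfl fun t _ => Finset.sum_congr rfl fun i hi => ?_
  rw [← (Finset.mem_filter.1 hi).2]
  exact (EGA2SymLib.str_mul_j (j := j) U (r i) (v i)).symm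

section Degrees

variable {k : Type u} [Field k] {X Y : Scheme.{u}} [X.Over (Spec (CommRingCat.of k))]
  [IsProper (X ↘ Spec (CommRingCat.of k))] [Y.Over (Spec (CommRingCat.of k))]
  [IsProper (Y ↘ Spec (CommRingCat.of k))]

/-- Pullback of a nef module pairs nonnegatively with curves. -/
theorem N_pullback_nonneg {g : Y ⟶ X} (hg : g ≫ (X ↘ Spec (CommRingCat.of k)) = Y ↘ Spec (CommRingCat.of k))
    {M : X.Modules} (hM : PicF.IsInvertible M) (hn : ∀ C : X.IdealSheafData, IsIntegral C.subscheme →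
      topologicalKrullDim (C.support : Set X) = 1 → 0 ≤ cd k M C) {ξ : Y}
    (hξ : topologicalKrullDim (closure ({ξ} : Set Y)) = ((1 : ℕ) : WithBot ℕ∞)) :
    0 ≤ N k [pb g M] (Fpt ξ) := by
  haveI := isProper_g hg
  haveI := CurvLib.isNoetherian k (X := X)
  by_cases h1 : topologicalKrullDim (closure ({g ξ} : Set X)) = ((1 : ℕ) : WithBot ℕ∞)
  · exact (NefCurveLib.N_pullback_nonneg_iff hg hM hξ h1).2 (nef_of_cd hn (g ξ) h1)
  have hlt : topologicalKrullDim (closure ({g ξ} : Set X)) < ((1 : ℕ) : WithBot ℕ∞) :=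
    lt_of_le_of_ne ((dim_closure_map_le hg ξ).trans hξ.le) h1
  rw [show [pb g M] = List.map (pb g) [M] from rfl,
    N_push hg (NefCurveLib.one_singleton hM) (coh_Fpt k ξ) (le_of_eq (by rw [supp_Fpt k, hξ]; rfl)),
    N_low (NefCurveLib.one_singleton hM) (FormalCohLib.isCoh_push_proper g (coh_Fpt k ξ))
      ((dim_mono (support_push_closure hg ξ)).trans_lt hlt)]

end Degrees

variable (k : Type u) [Field k] (X : Scheme.{u}) [X.Over (Spec (CommRingCat.of k))]
  [IsProper (X ↘ Spec (CommRingCat.of k))] (E : X.Modules) (hE : FlatMod.IsFinLocFree E)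

include hE in
/-- Curves tested on the bundle give curves tested on the base, and conversely. -/
theorem main :
    (∀ (𝒮 : RelProj.QCGrAlg X) (j : E ⟶ 𝒮.toModule) (P : Scheme.{u}) (p : P ⟶ X)
        (chart : ∀ (U : X.Opens) (hU : IsAffineOpen U),
          (((p ⁻¹ᵁ U : P.Opens) : Scheme.{u}) ≅ Proj (𝒮.deg U hU)))
        (O1 : P.Modules)
        (lam : ∀ (U : X.Opens) (hU : IsAffineOpen U),
          O1 ⟶ (Scheme.Modules.pushforward (RelProj.emb p chart U hU)).obj (GrTwist.twist (𝒮.deg U hU) 1)),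
        RelProj.IsGrSymAlg E 𝒮 j → RelProj.IsRelProj 𝒮 p chart → RelProj.IsRelTwist 𝒮 p chart 1 O1 lam →
        ∀ C : P.IdealSheafData, IsIntegral C.subscheme → topologicalKrullDim (C.support : Set P) = 1 →
          0 ≤ @Curv2.euler k _ P ⟨p ≫ (X ↘ (Spec (CommRingCat.of k)))⟩ (CohB1.tensorMod (ClSub.quotMod C) O1) -
              @Curv2.euler k _ P ⟨p ≫ (X ↘ (Spec (CommRingCat.of k)))⟩ (ClSub.quotMod C)) ↔
    (∀ (C : Scheme.{u}) [C.Over (Spec (CommRingCat.of k))] [IsProper (C ↘ (Spec (CommRingCat.of k)))] [IsIntegral C],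
      topologicalKrullDim C = 1 → (∀ x : C, IsRegularLocalRing (C.presheaf.stalk x)) →
      ∀ (f : C ⟶ X), f ≫ (X ↘ (Spec (CommRingCat.of k))) = C ↘ (Spec (CommRingCat.of k)) →
      ∀ (M : C.Modules), PicF.IsInvertible M →
      ∀ (q : (Scheme.Modules.pullback f).obj E ⟶ M), Epi q → 0 ≤ Curv2.deg k C M 1) := by
  haveI hEq : Coh.IsQCoh E := (VBResLib.isCoh_of_vb hE).1
  haveI := CurvLib.isNoetherian k (X := X)
  constructor
  · intro hn C _ _ _ hdim _ f hf M hM q hq
    haveI := CurvLib.isNoetherian k (X := C)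
    haveI := hq
    haveI : Coh.IsQCoh M := FinLFAnn.isQCoh_of_isFinLocFree (AmpleDevLib.isFinLocFree_of_isInvertible hM)
    obtain ⟨𝒮, j, hj⟩ := EGA2SymLib.exists_isGrSymAlg E
    obtain ⟨P, p, chart, hP⟩ := MiscFlat6.exists_relProj 𝒮
    obtain ⟨O1, lam, hO1⟩ := GrModLib6.exists_isRelTwist hP 1
    obtain ⟨φ, hφ⟩ := EGA2SymLib.exists_canonicalMap_one hP hO1 j hj.2
    obtain ⟨r, hr, τ, -⟩ := EGA2SymLib.exists_induces q hj hP hM hO1 hφ
    have hO : PicF.IsInvertible O1 := EGA2SymLib.isInvertible_of_isRelTwist (SymGenLib.isGenDegOne hj) hO1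
    haveI := MiscFlat6.isProper_relProj hP (SymGenLib.isGenDegOne hj) (isFTDeg hE hj)
    letI : P.Over (Spec (CommRingCat.of k)) := ⟨p ≫ (X ↘ Spec (CommRingCat.of k))⟩
    haveI : IsProper (P ↘ Spec (CommRingCat.of k)) :=
      inferInstanceAs (IsProper (p ≫ (X ↘ Spec (CommRingCat.of k))))
    have hrk : r ≫ (P ↘ Spec (CommRingCat.of k)) = C ↘ Spec (CommRingCat.of k) := by
      show r ≫ p ≫ _ = _
      rw [← Category.assoc, hr, hf]
    have h : 0 ≤ N k [pb r O1] (Fpt (genericPoint C)) :=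
      N_pullback_nonneg hrk hO (hn 𝒮 j P p chart O1 lam hj hP hO1)
        (dim_closure_generic.trans (hdim.trans Nat.cast_one.symm))
    have h' := (NefCurveLib.deg_nonneg_iff hdim (AmpleDevLib.isInvertible_pb r hO)).2 h
    rwa [NefCurveLib.deg_eq_N, N, N, N, CurvLib.euler_congr (HilbPolyLib.congrLeft τ _), ← N, ← N, ← N,
      ← NefCurveLib.deg_eq_N] at h'
  · intro hnef 𝒮 j P p chart O1 lam hj hP hO1 C hC hdC
    haveI := hC
    obtain ⟨φ, hφ⟩ := EGA2SymLib.exists_canonicalMap_one hP hO1 j hj.2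
    haveI := Groth.Agent.S5732.result E inferInstance 𝒮 j hj p chart hP O1 lam hO1 φ hφ
    have hO : PicF.IsInvertible O1 := EGA2SymLib.isInvertible_of_isRelTwist (SymGenLib.isGenDegOne hj) hO1
    haveI := MiscFlat6.isProper_relProj hP (SymGenLib.isGenDegOne hj) (isFTDeg hE hj)
    letI : P.Over (Spec (CommRingCat.of k)) := ⟨p ≫ (X ↘ Spec (CommRingCat.of k))⟩
    haveI : IsProper (P ↘ Spec (CommRingCat.of k)) :=
      inferInstanceAs (IsProper (p ≫ (X ↘ Spec (CommRingCat.of k))))
    haveI := CurvLib.isNoetherian k (X := P)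
    let ι := C.subschemeι
    letI : C.subscheme.Over (Spec (CommRingCat.of k)) := ⟨ι ≫ (P ↘ Spec (CommRingCat.of k))⟩
    haveI : IsProper (C.subscheme ↘ Spec (CommRingCat.of k)) :=
      inferInstanceAs (IsProper (ι ≫ (P ↘ Spec (CommRingCat.of k))))
    have hη : topologicalKrullDim (closure ({ι (genericPoint C.subscheme)} : Set P)) = ((1 : ℕ) : WithBot ℕ∞) :=
      (dim_generic_of_support C).trans (hdC.trans Nat.cast_one.symm)
    have hξ : topologicalKrullDim (closure ({genericPoint C.subscheme} : Set C.subscheme)) =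
        ((1 : ℕ) : WithBot ℕ∞) := by
      rw [← dim_closure_image ι]; exact hη
    have hd1 : topologicalKrullDim C.subscheme = 1 :=
      dim_closure_generic.symm.trans (hξ.trans Nat.cast_one)
    let ε := ((Scheme.Modules.pullbackPushforwardAdjunction p).homEquiv E O1).symm φ
    let Q := Scheme.Modules.pullback ι
    haveI : Q.IsLeftAdjoint := (Scheme.Modules.pullbackPushforwardAdjunction ι).isLeftAdjoint
    haveI : Epi (Q.map ε) := inferInstance
    have h := NefCurveLib.test_integral hnef hd1 (f := ι ≫ p) (Category.assoc _ _ _)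
      (AmpleDevLib.isInvertible_pb ι hO) (((Scheme.Modules.pullbackComp ι p).app E).inv ≫ Q.map ε)
    have h1 := (NefCurveLib.N_pullback_nonneg_iff (k := k) (g := ι) rfl hO hξ hη).mp h
    rw [Fpt, N_singleton, ← eq_ptIdeal C] at h1
    exact h1

end NefBundleLib

end
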