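import Groth.Agent.NefBundleLib.Main
import Groth.Agent.CubeConsLib.IsoCls
import Groth.Agent.EGA2SymLib.CompVA
import Groth.Agent.VBResLib.KFunct
import Groth.Agent.EllSecLib.BiReg
import Groth.Agent.GenusZeroLib.PointIdeal
import Groth.Agent.GenusZeroLib.RatData
import Groth.Agent.GenusZeroLib.Degrees
import Groth.Agent.NefH1Lib.MinimalPoint
import Groth.Agent.SerreVanLib.CurveAmple
import Groth.Agent.MiscFlat6.RelAmpleCompPowers
import Groth.Agent.IntFunLib.Kleiman
import Groth.Agent.AmpleThLib.Ample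
import Groth.Agent.AmpleDevLib.Components
import Groth.Agent.CohCmpLib.HomLift
import Groth.Agent.S9815

/-!
# Nef bundles: the test by twisting with ample modules
-/

set_option autoImplicit false
set_option linter.style.haveILetI false
set_option linter.unusedSectionVars false
set_option backward.isDefEq.respectTransparency false
set_option backward.isDefEq.respectTransparency.types false
set_option maxHeartbeats 1000000

universe u

open CategoryTheory CategoryTheory.Limits AlgebraicGeometry TopologicalSpace Opposite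
open IntFunLib IntMultLib
open KFlatLib (pb)
open CubeConsLib (cl pull)

noncomputable section

namespace NefBundleLib

open Groth.Agent

/-- Tensoring an epimorphism with a bundle on the left. -/
theorem exists_epi_tensor {Y : Scheme.{u}} [IsLocallyNoetherian Y] {A F F' : Y.Modules}
    (hA : FlatMod.IsFinLocFree A) (p : F ⟶ F') [Epi p] :
    ∃ q : CohB1.tensorMod A F ⟶ CohB1.tensorMod A F', Epi q := by
  let S : ShortComplex Y.Modules := ShortComplex.mk (kernel.ι p) p (kernel.condition p)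
  have hS : S.ShortExact :=
    { exact := ShortComplex.exact_of_f_is_kernel _ (kernelIsKernel p)
      mono_f := inferInstanceAs (Mono (kernel.ι p))
      epi_g := inferInstanceAs (Epi p) }
  exact ⟨_, (VBResLib.shortExact_tensor_vb A hA hS).epi_g⟩

section Ample

variable (k : Type u) [Field k] {X C : Scheme.{u}} [X.Over (Spec (CommRingCat.of k))]
  [IsProper (X ↘ Spec (CommRingCat.of k))] [C.Over (Spec (CommRingCat.of k))]
  [IsProper (C ↘ Spec (CommRingCat.of k))] {E : X.Modules} (hE : FlatMod.IsFinLocFree E)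

include hE in
/-- A nef bundle twisted by an ample module is ample. -/
theorem isAmple_twist
    (hnef : ∀ (D : Scheme.{u}) [D.Over (Spec (CommRingCat.of k))] [IsProper (D ↘ (Spec (CommRingCat.of k)))] [IsIntegral D],
      topologicalKrullDim D = 1 → (∀ x : D, IsRegularLocalRing (D.presheaf.stalk x)) →
      ∀ (g : D ⟶ X), g ≫ (X ↘ (Spec (CommRingCat.of k))) = D ↘ (Spec (CommRingCat.of k)) →
      ∀ (M : D.Modules), PicF.IsInvertible M →
      ∀ (q : (Scheme.Modules.pullback g).obj E ⟶ M), Epi q → 0 ≤ Curv2.deg k D M 1)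
    {f : C ⟶ X} (hf : f ≫ (X ↘ Spec (CommRingCat.of k)) = C ↘ Spec (CommRingCat.of k))
    {H : C.Modules} (hH : CohB1.IsAmple H)
    {𝒮 : RelProj.QCGrAlg C} {j : CohB1.tensorMod H (pb f E) ⟶ 𝒮.toModule}
    (hj : RelProj.IsGrSymAlg (CohB1.tensorMod H (pb f E)) 𝒮 j) {P : Scheme.{u}} {p : P ⟶ C}
    {chart : ∀ (U : C.Opens) (hU : IsAffineOpen U), (((p ⁻¹ᵁ U : P.Opens) : Scheme.{u}) ≅ Proj (𝒮.deg U hU))}
    {O1 : P.Modules}
    {lam : ∀ (U : C.Opens) (hU : IsAffineOpen U),
      O1 ⟶ (Scheme.Modules.pushforward (RelProj.emb p chart U hU)).obj (GrTwist.twist (𝒮.deg U hU) 1)}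
    (hP : RelProj.IsRelProj 𝒮 p chart) (hO1 : RelProj.IsRelTwist 𝒮 p chart 1 O1 lam) :
    CohB1.IsAmple O1 := by
  haveI := CurvLib.isNoetherian k (X := C)
  have hF : FlatMod.IsFinLocFree (pb f E) := CohCmpLib.isFinLocFree_pb f hE
  have hHf : FlatMod.IsFinLocFree H := AmpleDevLib.isFinLocFree_of_isInvertible hH.1
  have hE' : FlatMod.IsFinLocFree (CohB1.tensorMod H (pb f E)) := EllSecLib.vb_tensor' hHf hF
  haveI : Coh.IsQCoh (CohB1.tensorMod H (pb f E)) := (VBResLib.isCoh_of_vb hE').1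
  have hgen := SymGenLib.isGenDegOne hj
  have hft := isFTDeg hE' hj
  haveI := MiscFlat6.isProper_relProj hP hgen hft
  letI : P.Over (Spec (CommRingCat.of k)) := ⟨p ≫ (C ↘ Spec (CommRingCat.of k))⟩
  haveI : IsProper (P ↘ Spec (CommRingCat.of k)) :=
    inferInstanceAs (IsProper (p ≫ (C ↘ Spec (CommRingCat.of k))))
  haveI := CurvLib.isNoetherian k (X := P)
  have hO : PicF.IsInvertible O1 := EGA2SymLib.isInvertible_of_isRelTwist hgen hO1
  obtain ⟨φ, hφ⟩ := EGA2SymLib.exists_canonicalMap_one hP hO1 j hj.2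
  haveI := Groth.Agent.S5732.result (CohB1.tensorMod H (pb f E)) inferInstance 𝒮 j hj p chart hP O1 lam hO1 φ hφ
  let ε := ((Scheme.Modules.pullbackPushforwardAdjunction p).homEquiv (CohB1.tensorMod H (pb f E)) O1).symm φ
  -- the twist of `O(1)` by the inverse of `H`
  let D := pb p (MiscFlat6.dual H)
  have hD : PicF.IsInvertible D := AmpleDevLib.isInvertible_pb p (MiscFlat6.dual_isInvertible hH.1)
  let T := CohB1.tensorMod D O1
  have hT : PicF.IsInvertible T := HilbPolyLib.isInvertible_tensor hD hO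
  have hd : cl H * cl (MiscFlat6.dual H) = 1 := CubeConsLib.cl_eq_one_iff.2 (MiscFlat6.nonempty_dualIso hH.1)
  have hTn : Nef k T := by
    intro ξ hξ
    obtain ⟨q₀, hq₀⟩ := exists_epi_tensor (AmpleDevLib.isFinLocFree_of_isInvertible hD) ε
    obtain ⟨e⟩ : Nonempty (pb (p ≫ f) E ≅ CohB1.tensorMod D (pb p (CohB1.tensorMod H (pb f E)))) := by
      refine CubeConsLib.cl_eq_iff.1 ?_
      show _ = cl D * pull p (cl H * pull f (cl E))
      rw [map_mul, CubeConsLib.pull_comp, ← mul_assoc, show cl D = pull p (cl (MiscFlat6.dual H)) from rfl,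
        ← map_mul, mul_comm (cl (MiscFlat6.dual H)), hd, map_one, one_mul]
      rfl
    haveI := hq₀
    let Z := (ptIdeal ξ).subscheme
    haveI := isIntegral_ptIdeal ξ
    let ι : Z ⟶ P := (ptIdeal ξ).subschemeι
    letI : Z.Over (Spec (CommRingCat.of k)) := ⟨ι ≫ (P ↘ Spec (CommRingCat.of k))⟩
    haveI : IsProper (Z ↘ Spec (CommRingCat.of k)) :=
      inferInstanceAs (IsProper (ι ≫ (P ↘ Spec (CommRingCat.of k))))
    have hιη : ι (genericPoint Z) = ξ := NefCurveLib.subscheme_generic ξ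
    have hη : topologicalKrullDim (closure ({ι (genericPoint Z)} : Set P)) = ((1 : ℕ) : WithBot ℕ∞) := by
      rw [hιη]; exact hξ
    have hξ' : topologicalKrullDim (closure ({genericPoint Z} : Set Z)) = ((1 : ℕ) : WithBot ℕ∞) := by
      rw [← dim_closure_image ι]; exact hη
    have hd1 : topologicalKrullDim Z = 1 := dim_closure_generic.symm.trans (hξ'.trans Nat.cast_one)
    let Q := Scheme.Modules.pullback ι
    haveI : Q.IsLeftAdjoint := (Scheme.Modules.pullbackPushforwardAdjunction ι).isLeftAdjoint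
    let q₁ : pb (p ≫ f) E ⟶ T := e.hom ≫ q₀
    haveI : Epi q₁ := epi_comp _ _
    haveI : Epi (Q.map q₁) := inferInstance
    have hover : (ι ≫ p ≫ f) ≫ (X ↘ Spec (CommRingCat.of k)) = Z ↘ Spec (CommRingCat.of k) := by
      rw [Category.assoc, Category.assoc, hf]; rfl
    have h := NefCurveLib.test_integral hnef hd1 (f := ι ≫ p ≫ f) hover
      (AmpleDevLib.isInvertible_pb ι hT) (((Scheme.Modules.pullbackComp ι (p ≫ f)).app E).inv ≫ Q.map q₁)
    have h1 := (NefCurveLib.N_pullback_nonneg_iff (k := k) (g := ι) rfl hT hξ' hη).mp h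
    rwa [hιη] at h1
  -- add an ample module
  obtain ⟨n₀, hn₀⟩ := MiscFlat6.exists_isAmple_tensor_pullback p
    (MiscFlat6.relTwist_one_isRelAmple hP hgen hft hO1) hH
  let n := n₀ + 1
  let A := CohB1.tensorMod O1 (pb p (CohB1.tensorPow H n))
  have hA : CohB1.IsAmple A := hn₀ n (Nat.le_succ _)
  have h2 := IntFunLib.isAmple_nef_add hT hTn hA (q := n) (p := 1) (Nat.succ_pos _) one_pos
  obtain ⟨e2⟩ : Nonempty (CohB1.tensorMod (CohB1.tensorPow T n) (CohB1.tensorPow A 1) ≅ CohB1.tensorPow O1 (n + 1)) := by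
    refine CubeConsLib.cl_eq_iff.1 ?_
    rw [CubeConsLib.cl_tensor, EGA2SymLib.cl_tensorPow, EGA2SymLib.cl_tensorPow, EGA2SymLib.cl_tensorPow, pow_one]
    show (pull p (cl (MiscFlat6.dual H)) * cl O1) ^ n * (cl O1 * pull p (cl (CohB1.tensorPow H n))) = _
    rw [EGA2SymLib.cl_tensorPow, map_pow, mul_pow, mul_comm (cl O1) (pull p (cl H) ^ n),
      mul_mul_mul_comm, ← mul_pow, ← map_mul, mul_comm (cl (MiscFlat6.dual H)), hd, map_one, one_pow, one_mul,
      ← pow_succ]
  exact (AmpleThLib.isAmple_tensorPow_iff hO (Nat.succ_pos n)).2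
    (AmpleDevLib.isAmple_of_iso h2.1 (AmpleThLib.tensorPow_isInvertible hO _) e2 h2)

end Ample

section Converse

variable (k : Type u) [Field k] [IsAlgClosed k] {X C : Scheme.{u}}
  [C.Over (Spec (CommRingCat.of k))] [IsProper (C ↘ Spec (CommRingCat.of k))] [IsIntegral C]
  (hdim : topologicalKrullDim C = 1) (hreg : ∀ x : C, IsRegularLocalRing (C.presheaf.stalk x))

include hdim hreg in
/-- A regular curve over an algebraically closed field has a module of degree one. -/
theorem exists_deg_one : ∃ H : C.Modules, PicF.IsInvertible H ∧ Curv2.deg k C H 1 = 1 := by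
  haveI := CurvLib.isNoetherian k (X := C)
  obtain ⟨x, -, hx⟩ := isClosed_univ.exists_closed_singleton (Set.univ_nonempty (α := C))
  haveI := NefH1Lib.dvr_of_regular k hdim hx (hreg x)
  obtain ⟨I, -, hI, hdI⟩ := GenusZeroLib.exists_idealMod_iso (k := k) hx hdim
  let w := pointOfClosedPoint (C ↘ Spec (CommRingCat.of k)) x hx
  have h := GenusZeroLib.finrank_residueField_rational w (pointOfClosedPoint_comp _ x hx) (IsLocalRing.closedPoint k)
  rw [pointOfClosedPoint_apply _ x hx _] at h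
  rw [h, Nat.cast_one] at hdI
  refine ⟨MiscFlat6.dual I, MiscFlat6.dual_isInvertible hI, ?_⟩
  obtain ⟨e⟩ := MiscFlat6.nonempty_dualIso hI
  have h2 := GenusZeroLib.deg_tensor k hdim hI (MiscFlat6.dual_isInvertible hI)
  have h0 : Curv2.deg k C (Coh.structureModule C) 1 = 0 := by
    rw [Curv2.deg]; push_cast; ring
  rw [CurvLib.deg_congr (k := k) e, h0, hdI] at h2
  omega

include hdim hreg in
/-- Ampleness of all twists gives nonnegative degrees of quotients. -/
theorem deg_nonneg_of_twists {F : C.Modules} (hF : FlatMod.IsFinLocFree F)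
    (hamp : ∀ (H : C.Modules), CohB1.IsAmple H →
      ∀ (𝒮 : RelProj.QCGrAlg C) (j : (CohB1.tensorMod H F) ⟶ 𝒮.toModule) (P : Scheme.{u}) (p : P ⟶ C)
        (chart : ∀ (U : C.Opens) (hU : IsAffineOpen U),
          (((p ⁻¹ᵁ U : P.Opens) : Scheme.{u}) ≅ Proj (𝒮.deg U hU)))
        (O1 : P.Modules)
        (lam : ∀ (U : C.Opens) (hU : IsAffineOpen U),
          O1 ⟶ (Scheme.Modules.pushforward (RelProj.emb p chart U hU)).obj (GrTwist.twist (𝒮.deg U hU) 1)),
        RelProj.IsGrSymAlg (CohB1.tensorMod H F) 𝒮 j → RelProj.IsRelProj 𝒮 p chart →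
          RelProj.IsRelTwist 𝒮 p chart 1 O1 lam → CohB1.IsAmple O1)
    {M : C.Modules} (hM : PicF.IsInvertible M) (q : F ⟶ M) [Epi q] : 0 ≤ Curv2.deg k C M 1 := by
  haveI := CurvLib.isNoetherian k (X := C)
  by_contra hneg
  obtain ⟨H, hH, hdH⟩ := exists_deg_one k hdim hreg
  have hHa : CohB1.IsAmple H := SerreVanLib.isAmple_of_deg_pos hdim hH (by rw [hdH]; exact one_pos)
  have hHf := AmpleDevLib.isFinLocFree_of_isInvertible hH
  have hE' : FlatMod.IsFinLocFree (CohB1.tensorMod H F) := EllSecLib.vb_tensor' hHf hF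
  haveI : Coh.IsQCoh (CohB1.tensorMod H F) := (VBResLib.isCoh_of_vb hE').1
  have hHM : PicF.IsInvertible (CohB1.tensorMod H M) := HilbPolyLib.isInvertible_tensor hH hM
  haveI : Coh.IsQCoh (CohB1.tensorMod H M) :=
    FinLFAnn.isQCoh_of_isFinLocFree (AmpleDevLib.isFinLocFree_of_isInvertible hHM)
  obtain ⟨q', hq'⟩ := exists_epi_tensor hHf q
  haveI := hq'
  let s : pb (𝟙 C) (CohB1.tensorMod H F) ⟶ CohB1.tensorMod H M :=
    ((Scheme.Modules.pullbackId C).app (CohB1.tensorMod H F)).hom ≫ q'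
  haveI : Epi s := epi_comp _ _
  obtain ⟨𝒮, j, hj⟩ := EGA2SymLib.exists_isGrSymAlg (CohB1.tensorMod H F)
  obtain ⟨P, p, chart, hP⟩ := MiscFlat6.exists_relProj 𝒮
  obtain ⟨O1, lam, hO1⟩ := GrModLib6.exists_isRelTwist hP 1
  obtain ⟨φ, hφ⟩ := EGA2SymLib.exists_canonicalMap_one hP hO1 j hj.2
  obtain ⟨r, hr, τ, -⟩ := EGA2SymLib.exists_induces s hj hP hHM hO1 hφ
  haveI := MiscFlat6.isProper_relProj hP (SymGenLib.isGenDegOne hj) (isFTDeg hE' hj)
  haveI : IsClosedImmersion (r ≫ p) := by rw [hr]; infer_instance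
  haveI : IsClosedImmersion r := IsClosedImmersion.of_comp r p
  have h1 : CohB1.IsAmple (pb r O1) :=
    Groth.Agent.S9815.result r r.isClosedEmbedding.isEmbedding O1 (hamp H hHa 𝒮 j P p chart O1 lam hj hP hO1)
  have h2 := SerreVanLib.deg_pos_of_isAmple (k := k) hdim (AmpleDevLib.isAmple_of_iso h1.1 hHM τ h1)
  rw [GenusZeroLib.deg_tensor k hdim hH hM, hdH] at h2
  omega

end Converse

end NefBundleLib

end
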